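import Cfsg.Agent.R2.Spec.X1.TI.Sit
import Cfsg.Agent.H376.CocAlt

/-!
# Identification of `³D₄(q)`: the alternating groups (helper134, statement S3478)
-/

set_option autoImplicit false
set_option linter.unusedSectionVars false

namespace Cfsg.Agent.R2.Spec.X1.TI

open Cfsg Cfsg.Agent.R2.Spec.X1.TD

variable {p q : ℕ}

/-- powers of a prime `s` in `m!` for `m < 2 s` -/
theorem not_sq_dvd_factorial {s m : ℕ} (hs : s.Prime) (h : m < 2 * s) : ¬ s ^ 2 ∣ m.factorial := by
  intro hd
  have h1 : Nat.log s m < 2 := by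
    apply Nat.log_lt_of_lt_pow' (by norm_num)
    have := hs.two_le
    nlinarith
  have h2 := (Nat.Prime.pow_dvd_factorial_iff hs h1).1 hd
  have h3 : Finset.Ico 1 2 = {1} := by decide
  rw [h3, Finset.sum_singleton, pow_one] at h2
  have h4 : m / s < 2 := Nat.div_lt_of_lt_mul (by omega)
  omega

/-- **`A_m`** -/
theorem row_alt {m : ℕ} (h : Sit p q (alternatingGroup (Fin m))) : False := by
  obtain ⟨s, hs, hsn, hs13, hsd⟩ := h.exists_prime
  have hq := h.par.hq
  have hmm := mm_add_sq hq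
  have h73 := mm_ge h.par
  have hall : ∀ s' : ℕ, s'.Prime → s' ∣ mm q → s' ≤ m ∧ m ≤ s' + 3 := by
    intro s' hs' hd'
    refine ⟨H376.Coc.alt_dvd_le hs' (hd'.trans h.mm_dvd_card), ?_⟩
    by_contra hlt
    have h13 := h.two_lt hs' hd'
    exact h.not_two hs' hd' (H376.Coc.alt_adj_two hs' (by omega) (by omega))
  -- `n` is a power of `s`
  have h1 : ∀ {s' : ℕ}, s'.Prime → s' ∣ mm q → s' = s := by
    intro s' hs' hd'
    by_contra hne
    have h13 := h.two_lt hs' hd'
    have h2 : s' * s ∣ mm q := Nat.Coprime.mul_dvd_of_dvd_of_dvd ((Nat.coprime_primes hs' hs).2 hne) hd' hsn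
    obtain ⟨x, hx⟩ := h.mm
    have hx0 : orderOf x ≠ 0 := (orderOf_pos x).ne'
    have ho : orderOf (x ^ (orderOf x / (s' * s))) = s' * s := orderOf_pow_orderOf_div hx0 (by rw [hx]; exact h2)
    have h3 := (hall s' hs' hd').1
    have h4 := (S2466.result m s' s hs' hs (by omega) (by omega) hne h3 (hall s hs hsn).1).1 ⟨_, ho⟩
    have h5 := (hall s hs hsn).2
    omega
  have h2 : mm q = s ^ (mm q).primeFactorsList.length := Nat.eq_prime_pow_of_unique_prime_dvd (by omega) h1
  have hm := hall s hs hsn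
  have hfac : Nat.card (alternatingGroup (Fin m)) ∣ m.factorial := by
    have h3 : Nat.card (alternatingGroup (Fin m)) ∣ Nat.card (Equiv.Perm (Fin m)) :=
      Subgroup.card_subgroup_dvd_card _
    rwa [Nat.card_eq_fintype_card (α := Equiv.Perm (Fin m)), Fintype.card_perm, Fintype.card_fin] at h3
  have h3 : (mm q).primeFactorsList.length < 2 := by
    by_contra hlt
    push Not at hlt
    refine not_sq_dvd_factorial hs (m := m) (by omega) (dvd_trans ?_ (h.mm_dvd_card.trans hfac))
    rw [h2]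
    exact pow_dvd_pow s hlt
  have h4 : mm q ≤ s := by
    rw [h2]
    calc s ^ (mm q).primeFactorsList.length ≤ s ^ 1 := Nat.pow_le_pow_right hs.pos (by omega)
      _ = s := pow_one s
  obtain ⟨t, ht, ht2, htd, htS⟩ := h.sq
  apply htS
  have h5 : t ≤ q ^ 2 + 1 := Nat.le_of_dvd (by omega) htd
  have h6 : q ^ 4 = q ^ 2 * q ^ 2 := by ring
  have h7 : 9 ≤ q ^ 2 := by nlinarith
  have h8 : t ≤ m := by nlinarith
  have h9 : t ∣ m.factorial := (Nat.Prime.dvd_factorial ht).2 h8
  have h10 : 2 * Fintype.card (alternatingGroup (Fin m)) = m.factorial := by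
    have : Nontrivial (Fin m) := Fin.nontrivial_iff_two_le.2 (by omega)
    rw [two_mul_card_alternatingGroup, Fintype.card_perm, Fintype.card_fin]
  rw [← h10] at h9
  rw [Nat.card_eq_fintype_card]
  rcases (Nat.Prime.dvd_mul ht).1 h9 with h11 | h11
  · exact absurd ((Nat.prime_dvd_prime_iff_eq ht Nat.prime_two).1 h11) ht2
  · exact h11

end Cfsg.Agent.R2.Spec.X1.TI
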