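import Cfsg.Agent.R2.Spec.X1.TI.Sit
import Cfsg.Agent.H378.ExcNear
import Cfsg.Agent.H378.TwRows

/-!
# Identification of `³D₄(q)`: the rows of `G₂(u)`, `F₄(u)`, `³D₄(u)` (helper134, statement S3478)

* `row_G2`, `row_F4` : `False`; `row_3D4` : `u = q`.
-/

set_option autoImplicit false
set_option linter.unusedSectionVars false

namespace Cfsg.Agent.R2.Spec.X1.TI

open Cfsg Cfsg.Lie Subgroup
open Cfsg.Agent.R2.Spec.X1.TD Cfsg.Agent.H129 Cfsg.Agent.H129.CycT Cfsg.Agent.H564.NearTwo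
open Cfsg.Agent.H378 Cfsg.Agent.H378.ExcAdj Cfsg.Agent.H378.CycTab Cfsg.Agent.H378.ExcNear
open Cfsg.Agent.H378.AdjTab

universe u

variable {p q : ℕ}

/-- a cyclic subgroup of order `N` containing the centralizers of its elements of order `r` -/
def TorAt (G : Type*) [Group G] (N r : ℕ) : Prop :=
  ∃ T : Subgroup G, IsCyclic ↥T ∧ Nat.card ↥T = N ∧ ∀ y ∈ T, orderOf y = r → centralizer {y} ≤ T

theorem TorAt.order {G : Type*} [Group G] {N r : ℕ} (h : TorAt G N r) : ∃ x : G, orderOf x = N := by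
  obtain ⟨T, hc, rfl, -⟩ := h
  obtain ⟨t, ht⟩ := hc.exists_generator
  exact ⟨t, by
    rw [Subgroup.orderOf_coe]
    exact orderOf_eq_card_of_forall_mem_zpowers ht⟩

theorem torAt_of_exact {G : Type*} [Group G] {N r : ℕ} (h : CycExact G N)
    (hr : r.Prime) : TorAt G N r := by
  obtain ⟨T, h1, h2, h3⟩ := h
  refine ⟨T, h1, h2, fun y hy hyr => (h3 y hy ?_).le⟩
  rintro rfl
  rw [orderOf_one] at hyr
  exact hr.one_lt.ne hyr

theorem Sit.torAt {S : Type*} [Group S] [Finite S] (h : Sit p q S) {N s : ℕ} (hT : TorAt S N s) (hs : s.Prime)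
    (hsN : s ∣ N) (hsn : s ∣ R2.Spec.X1.TD.mm q) : N = R2.Spec.X1.TD.mm q := by
  obtain ⟨T, h1, rfl, h3⟩ := hT
  exact h.card_eq h1 hs hsN h3 hsn

/-- a cyclic torus of `G₂(u)` or `F₄(u)` (`d = 1`) gives an element of order `N` -/
theorem order_of_torus {G : Type*} [Group G] {N : ℕ} {T : Subgroup G} (hc : IsCyclic ↥T) (h1 : Nat.card ↥T ∣ N)
    (h2 : N ∣ 1 * Nat.card ↥T) : ∃ x : G, orderOf x = N := by
  rw [one_mul] at h2
  have h3 := Nat.dvd_antisymm h1 h2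
  obtain ⟨t, ht⟩ := hc.exists_generator
  exact ⟨t, by
    rw [Subgroup.orderOf_coe, ← h3]
    exact orderOf_eq_card_of_forall_mem_zpowers ht⟩

/-! ### numbers -/

theorem cube_sub (b : ℕ) : (b + 3) ^ 3 - 1 = b ^ 3 + 9 * b ^ 2 + 27 * b + 26 := by
  have : (b + 3) ^ 3 = (b ^ 3 + 9 * b ^ 2 + 27 * b + 26) + 1 := by ring
  omega

theorem one_eq (b : ℕ) : ((b + 3) ^ 3 - 1) * (b + 3 + 1) = b ^ 4 + 13 * b ^ 3 + 63 * b ^ 2 + 134 * b + 104 := by
  rw [cube_sub]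
  ring

theorem two_eq (b : ℕ) : ((b + 3) ^ 3 + 1) * (b + 3 - 1) = b ^ 4 + 11 * b ^ 3 + 45 * b ^ 2 + 82 * b + 56 := by
  have : b + 3 - 1 = b + 2 := by omega
  rw [this]
  ring

theorem mm_poly (b : ℕ) : mm (b + 3) = b ^ 4 + 12 * b ^ 3 + 53 * b ^ 2 + 102 * b + 73 := by
  have h1 := mm_add_sq (q := b + 3) (by omega)
  have h2 : (b + 3) ^ 4 + 1 = (b ^ 4 + 12 * b ^ 3 + 53 * b ^ 2 + 102 * b + 73) + (b + 3) ^ 2 := by ring
  omega

theorem three_eq (b : ℕ) : (b + 3) * ((b + 3) ^ 3 - 1) = b ^ 4 + 12 * b ^ 3 + 54 * b ^ 2 + 107 * b + 78 := by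
  rw [cube_sub]
  ring

theorem four_eq (b : ℕ) : (b + 3) * ((b + 3) ^ 3 + 1) = b ^ 4 + 12 * b ^ 3 + 54 * b ^ 2 + 109 * b + 84 := by
  ring

/-- an element order `a` with `5 n ≤ 7 a`, in terms of `b = q - 3` -/
theorem Om.large' {b a : ℕ} (h : Par p (b + 3)) (ho : Om p (b + 3) a)
    (h7 : 5 * (b ^ 4 + 12 * b ^ 3 + 53 * b ^ 2 + 102 * b + 73) ≤ 7 * a) :
    a = b ^ 4 + 12 * b ^ 3 + 53 * b ^ 2 + 102 * b + 73 ∨ a = b ^ 4 + 13 * b ^ 3 + 63 * b ^ 2 + 134 * b + 104 ∨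
      a = b ^ 4 + 11 * b ^ 3 + 45 * b ^ 2 + 82 * b + 56 ∨ a = b ^ 4 + 12 * b ^ 3 + 54 * b ^ 2 + 107 * b + 78 ∨
      a = b ^ 4 + 12 * b ^ 3 + 54 * b ^ 2 + 109 * b + 84 := by
  have h1 := Om.large h ho (by rw [mm_poly]; exact h7)
  rw [mm_poly, one_eq, two_eq, three_eq, four_eq] at h1
  exact h1

section G2

variable {F : Type u} [Field F] [Fintype F] {v N : ℕ}

theorem order_G2_3 (hq : Fintype.card F = v) (hN : (N : ℤ) = 1 + (v : ℤ) + (v : ℤ) ^ 2) :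
    ∃ x : ↥(chevG2.group F), orderOf x = N := by
  have : Finite CoxeterMatrix.G₂.Group := Nat.finite_of_card_ne_zero (by rw [cardW_G2]; norm_num)
  obtain ⟨T, h1, h2, h3, -⟩ := UntwT.untw_T typeG2 CoxeterMatrix.G₂.toCoxeterSystem (by norm_num) hq TorusChar.invC_G2
    one_ne_zero DataG2.hA DataG2.chainOK DataG2.cycOK DataG2.rootOK (by rw [DataG2.fN_eq, hN])
    (UntwData.coprime_of_eq (a := 1 + (v : ℤ)) (by rw [hN]; ring)) (d := 1) (Or.inl rfl)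
  exact order_of_torus h1 h2 h3

theorem order_G2_6 (hq : Fintype.card F = v) (hN : (N : ℤ) = 1 - (v : ℤ) + (v : ℤ) ^ 2) :
    ∃ x : ↥(chevG2.group F), orderOf x = N := by
  have : Finite CoxeterMatrix.G₂.Group := Nat.finite_of_card_ne_zero (by rw [cardW_G2]; norm_num)
  obtain ⟨T, h1, h2, h3, -⟩ := UntwT.untw_T typeG2 CoxeterMatrix.G₂.toCoxeterSystem (by norm_num) hq TorusChar.invC_G2
    one_ne_zero DataG2h.hA DataG2h.chainOK DataG2h.cycOK DataG2h.rootOK (by rw [DataG2h.fN_eq, hN])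
    (UntwData.coprime_of_eq (a := -1 + (v : ℤ)) (by rw [hN]; ring)) (d := 1) (Or.inl rfl)
  exact order_of_torus h1 h2 h3

theorem tor_G2_3 (hq : Fintype.card F = v) (hN : (N : ℤ) = 1 + (v : ℤ) + (v : ℤ) ^ 2) {r : ℕ} (hr : r.Prime)
    (hrN : r ∣ N) (hr3 : r ≠ 3) : TorAt ↥(chevG2.group F) N r := by
  have : Finite CoxeterMatrix.G₂.Group := Nat.finite_of_card_ne_zero (by rw [cardW_G2]; norm_num)
  obtain ⟨T, h1, h2, h3, h4, -⟩ := UntwT.untw_T typeG2 CoxeterMatrix.G₂.toCoxeterSystem (by norm_num) hq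
    TorusChar.invC_G2 one_ne_zero DataG2.hA DataG2.chainOK DataG2.cycOK DataG2.rootOK (by rw [DataG2.fN_eq, hN])
    (UntwData.coprime_of_eq (a := 1 + (v : ℤ)) (by rw [hN]; ring)) (d := 1) (Or.inl rfl)
  rw [one_mul] at h3
  exact ⟨T, h1, Nat.dvd_antisymm h2 h3, h4 r hr (good_G2_3 hN hr hrN hr3).1 (good_G2_3 hN hr hrN hr3).2⟩

theorem tor_G2_6 (hq : Fintype.card F = v) (hN : (N : ℤ) = 1 - (v : ℤ) + (v : ℤ) ^ 2) {r : ℕ} (hr : r.Prime)
    (hrN : r ∣ N) (hr3 : r ≠ 3) : TorAt ↥(chevG2.group F) N r := by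
  have : Finite CoxeterMatrix.G₂.Group := Nat.finite_of_card_ne_zero (by rw [cardW_G2]; norm_num)
  obtain ⟨T, h1, h2, h3, h4, -⟩ := UntwT.untw_T typeG2 CoxeterMatrix.G₂.toCoxeterSystem (by norm_num) hq
    TorusChar.invC_G2 one_ne_zero DataG2h.hA DataG2h.chainOK DataG2h.cycOK DataG2h.rootOK (by rw [DataG2h.fN_eq, hN])
    (UntwData.coprime_of_eq (a := -1 + (v : ℤ)) (by rw [hN]; ring)) (d := 1) (Or.inl rfl)
  rw [one_mul] at h3
  exact ⟨T, h1, Nat.dvd_antisymm h2 h3, h4 r hr (good_G2_6 hN hr hrN hr3).1 (good_G2_6 hN hr hrN hr3).2⟩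

/-- **`G₂(u)`** -/
theorem row_G2 (h : Sit p q ↥(chevG2.group F)) : False := by
  have hq := h.par.hq
  have hq5 := h.par.q5
  obtain ⟨s, hs, hsn, hs13, hsd⟩ := h.exists_prime
  obtain ⟨v, hv⟩ : ∃ v, Fintype.card F = v := ⟨_, rfl⟩
  have hv' : Nat.card F = v := by rw [Nat.card_eq_fintype_card, hv]
  have hv2 : 2 ≤ v := by rw [← hv]; exact Fintype.one_lt_card
  have hle : v ≤ v ^ 2 := Nat.le_self_pow (by norm_num) _
  have hN3 : ((v ^ 2 + v + 1 : ℕ) : ℤ) = 1 + (v : ℤ) + (v : ℤ) ^ 2 := by push_cast; ring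
  have hN6 : ((v ^ 2 - v + 1 : ℕ) : ℤ) = 1 - (v : ℤ) + (v : ℤ) ^ 2 := by push_cast [Nat.cast_sub hle]; ring
  have hmm := mm_add_sq hq
  rcases (near_G2 F hs hsd).resolve_left (h.not_near hs hsn) with h1 | h1
  · rw [hv'] at h1
    have h2 := dvd3 hs h1
    rw [pv3] at h2
    have h3 : s ∣ v ^ 2 + v + 1 := by exact_mod_cast h2
    have h4 := h.torAt (tor_G2_3 hv hN3 hs h3 (by omega)) hs h3 hsn
    have h5 := eq_add h.par h4.symm
    have h6 := h.ord (order_G2_6 hv hN6)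
    obtain ⟨b, rfl⟩ : ∃ b, q = b + 3 := ⟨q - 3, by omega⟩
    have h8 : v = b ^ 2 + 6 * b + 8 := by
      have : (b + 3) ^ 2 = b ^ 2 + 6 * b + 9 := by ring
      omega
    have ha : v ^ 2 - v + 1 = b ^ 4 + 12 * b ^ 3 + 51 * b ^ 2 + 90 * b + 57 := by
      rw [h8]
      have : (b ^ 2 + 6 * b + 8) ^ 2 = (b ^ 4 + 12 * b ^ 3 + 51 * b ^ 2 + 90 * b + 56) + (b ^ 2 + 6 * b + 8) := by ring
      omega
    rw [ha] at h6
    rcases Om.large' h.par h6 (by omega) with h10 | h10 | h10 | h10 | h10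
    · omega
    · omega
    · omega
    · omega
    · omega
  · rw [hv'] at h1
    have h2 := dvd6 hs h1
    rw [pv6] at h2
    have h3 : s ∣ v ^ 2 - v + 1 := by
      have : (s : ℤ) ∣ ((v ^ 2 - v + 1 : ℕ) : ℤ) := by
        rw [hN6]
        have e : 1 - (v : ℤ) + (v : ℤ) ^ 2 = (v : ℤ) ^ 2 - v + 1 := by ring
        rw [e]
        exact h2
      exact Int.natCast_dvd_natCast.1 this
    have h4 := h.torAt (tor_G2_6 hv hN6 hs h3 (by omega)) hs h3 hsn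
    have h5 := eq_sub h.par (v := v) (by omega) (by omega)
    have h6 := h.ord (order_G2_3 hv hN3)
    obtain ⟨b, rfl⟩ : ∃ b, q = b + 3 := ⟨q - 3, by omega⟩
    have ha : v ^ 2 + v + 1 = b ^ 4 + 12 * b ^ 3 + 55 * b ^ 2 + 114 * b + 91 := by
      rw [h5]
      ring
    rw [ha] at h6
    rcases Om.large' h.par h6 (by omega) with h10 | h10 | h10 | h10 | h10
    · omega
    · have e : b ^ 3 + 8 * b ^ 2 + 20 * b + 13 = 0 := by omega
      omega
    · omega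
    · omega
    · omega

end G2

section F4

variable {F : Type u} [Field F] [Fintype F] {v N : ℕ}

theorem order_F4_8 (hq : Fintype.card F = v) (hN : (N : ℤ) = 1 + (v : ℤ) ^ 4) :
    ∃ x : ↥(chevF4.group F), orderOf x = N := by
  have : Finite CoxeterMatrix.F₄.Group := Nat.finite_of_card_ne_zero (by rw [cardW_F4]; norm_num)
  obtain ⟨T, h1, h2, h3, -⟩ := UntwT.untw_T typeF4 CoxeterMatrix.F₄.toCoxeterSystem (by norm_num) hq TorusChar.invC_F4
    one_ne_zero DataF4.hA DataF4.chainOK DataF4.cycOK DataF4.rootOK (by rw [DataF4.fN_eq, hN])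
    (UntwData.coprime_of_eq (a := (v : ℤ) ^ 3) (by rw [hN]; ring)) (d := 1) (Or.inl rfl)
  exact order_of_torus h1 h2 h3

theorem tor_F4_8 (hq : Fintype.card F = v) (hN : (N : ℤ) = 1 + (v : ℤ) ^ 4) {r : ℕ} (hr : r.Prime)
    (hrN : r ∣ N) (hr2 : r ≠ 2) : TorAt ↥(chevF4.group F) N r := by
  have : Finite CoxeterMatrix.F₄.Group := Nat.finite_of_card_ne_zero (by rw [cardW_F4]; norm_num)
  obtain ⟨T, h1, h2, h3, h4, -⟩ := UntwT.untw_T typeF4 CoxeterMatrix.F₄.toCoxeterSystem (by norm_num) hq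
    TorusChar.invC_F4 one_ne_zero DataF4.hA DataF4.chainOK DataF4.cycOK DataF4.rootOK (by rw [DataF4.fN_eq, hN])
    (UntwData.coprime_of_eq (a := (v : ℤ) ^ 3) (by rw [hN]; ring)) (d := 1) (Or.inl rfl)
  rw [one_mul] at h3
  exact ⟨T, h1, Nat.dvd_antisymm h2 h3, h4 r hr (good_F4_8 hN hr hrN hr2).1 (good_F4_8 hN hr hrN hr2).2⟩

/-- **`F₄(u)`** -/
theorem row_F4 (h : Sit p q ↥(chevF4.group F)) : False := by
  have hq := h.par.hq
  have hq5 := h.par.q5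
  obtain ⟨s, hs, hsn, hs13, hsd⟩ := h.exists_prime
  obtain ⟨v, hv⟩ : ∃ v, Fintype.card F = v := ⟨_, rfl⟩
  have hv' : Nat.card F = v := by rw [Nat.card_eq_fintype_card, hv]
  have hv2 : 2 ≤ v := by rw [← hv]; exact Fintype.one_lt_card
  have hvp : IsPrimePow v := hv ▸ FiniteField.isPrimePow_card F
  have hN8 : ((v ^ 4 + 1 : ℕ) : ℤ) = 1 + (v : ℤ) ^ 4 := by push_cast; ring
  have hmm := mm_add_sq hq
  rcases (near_F4 F hs hsd).resolve_left (h.not_near hs hsn) with h1 | h1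
  · rw [hv'] at h1
    have h2 := dvd8 hs h1
    rw [pv8] at h2
    have h3 : s ∣ v ^ 4 + 1 := by exact_mod_cast h2
    have h4 := h.torAt (tor_F4_8 hv hN8 hs h3 (by omega)) hs h3 hsn
    exact ne_pow_add_one h.par hvp (m := 4) (by norm_num) h4.symm
  · rw [hv'] at h1
    have h2 := dvd12 hs h1
    rw [pv12] at h2
    have hle : v ^ 2 ≤ v ^ 4 := Nat.pow_le_pow_right (by omega) (by norm_num)
    have hN12 : ((v ^ 4 - v ^ 2 + 1 : ℕ) : ℤ) = 1 - (v : ℤ) ^ 2 + (v : ℤ) ^ 4 := by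
      push_cast [Nat.cast_sub hle]; ring
    have h3 : s ∣ v ^ 4 - v ^ 2 + 1 := by
      have : (s : ℤ) ∣ ((v ^ 4 - v ^ 2 + 1 : ℕ) : ℤ) := by
        rw [hN12]
        have e : 1 - (v : ℤ) ^ 2 + (v : ℤ) ^ 4 = (v : ℤ) ^ 4 - (v : ℤ) ^ 2 + 1 := by ring
        rw [e]
        exact h2
      exact Int.natCast_dvd_natCast.1 this
    have h4 := h.exact (exact_F4_12 hv hN12) hs h3 hsn
    have h5 : v ^ 2 = q ^ 2 := eq_sub h.par (v := v ^ 2) (by
      have : (v ^ 2) ^ 2 = v ^ 4 := by ring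
      omega) (by nlinarith)
    have h6 : v = q := Nat.pow_left_injective (n := 2) (by norm_num) h5
    have h7 := h.ord (order_F4_8 hv hN8)
    subst h6
    obtain ⟨b, rfl⟩ : ∃ b, v = b + 3 := ⟨v - 3, by omega⟩
    have ha : (b + 3) ^ 4 + 1 = b ^ 4 + 12 * b ^ 3 + 54 * b ^ 2 + 108 * b + 82 := by ring
    rw [ha] at h7
    rcases Om.large' h.par h7 (by omega) with h10 | h10 | h10 | h10 | h10
    · omega
    · omega
    · omega
    · omega
    · omega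

end F4

section TD4

variable {K : Type u} [Field K] [Fintype K] {v : ℕ}

/-- **`³D₄(u)`** : `u = q` -/
theorem row_3D4 (hv : IsPrimePow v) (hK : Fintype.card K = v ^ 3) (h : Sit p q ↥(twistedD4 K v)) : v = q := by
  have hq := h.par.hq
  have hq5 := h.par.q5
  obtain ⟨s, hs, hsn, hs13, hsd⟩ := h.exists_prime
  have hv2 : 2 ≤ v := hv.two_le
  have hmm := mm_add_sq hq
  have h1 := (TwRows.near_3D4 hv hK hs hsd).resolve_left (h.not_near hs hsn)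
  have h2 := dvd12 hs h1
  rw [pv12] at h2
  have hle : v ^ 2 ≤ v ^ 4 := Nat.pow_le_pow_right (by omega) (by norm_num)
  have hN12 : ((v ^ 4 - v ^ 2 + 1 : ℕ) : ℤ) = 1 - (v : ℤ) ^ 2 + (v : ℤ) ^ 4 := by
    push_cast [Nat.cast_sub hle]; ring
  have h3 : s ∣ v ^ 4 - v ^ 2 + 1 := by
    have : (s : ℤ) ∣ ((v ^ 4 - v ^ 2 + 1 : ℕ) : ℤ) := by
      rw [hN12]
      have e : 1 - (v : ℤ) ^ 2 + (v : ℤ) ^ 4 = (v : ℤ) ^ 4 - (v : ℤ) ^ 2 + 1 := by ring
      rw [e]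
      exact h2
    exact Int.natCast_dvd_natCast.1 this
  have h4 := h.exact (exact_tD4_12 hv hK hN12) hs h3 hsn
  have h5 : v ^ 2 = q ^ 2 := eq_sub h.par (v := v ^ 2) (by
    have : (v ^ 2) ^ 2 = v ^ 4 := by ring
    omega) (by nlinarith)
  exact Nat.pow_left_injective (n := 2) (by norm_num) h5

end TD4

end Cfsg.Agent.R2.Spec.X1.TI
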