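import Cfsg.Agent.R2.Spec.X1.TI.Sit
import Cfsg.Agent.NotCT.Orders
import Cfsg.Prelude.Def_Classification2

/-!
# Identification of `³D₄(q)`: the sporadic groups and the Tits group (helper134, statement S3478)
-/

set_option autoImplicit false
set_option linter.unusedSectionVars false

namespace Cfsg.Agent.R2.Spec.X1.TI

open Cfsg Cfsg.Agent.R2.Spec.X1.TD Cfsg.Agent.NotCT

variable {p q : ℕ}

theorem coprime_prime (h : Par p q) {r : ℕ} (hr : r.Prime) (h1 : r % 12 ≠ 1) (k : ℕ) :
    Nat.Coprime (mm q) (r ^ k) :=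
  Nat.Coprime.pow_right _ (Nat.Coprime.symm ((Nat.Prime.coprime_iff_not_dvd hr).2 fun hd => h1 (prime_mm h hr hd)))

/-- `n` does not divide `13³ · 37` -/
theorem not_dvd_small (h : Par p q) : ¬ mm q ∣ 13 ^ 3 * 37 := by
  intro hd
  have hq := h.hq
  have h1 := mm_add_sq hq
  have h2 := Nat.le_of_dvd (by norm_num) hd
  have h3 : q < 17 := by
    by_contra hlt
    push Not at hlt
    obtain ⟨b, rfl⟩ := Nat.exists_eq_add_of_le hlt
    have h4 : (17 + b) ^ 4 = (17 + b) ^ 2 * (17 + b) ^ 2 := by ring
    have h5 : 289 ≤ (17 + b) ^ 2 := by nlinarith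
    nlinarith
  unfold mm at hd
  interval_cases q <;> revert hd <;> decide

/-- the primes of the sporadic groups -/
theorem not_dvd_lcm (h : Par p q) : ¬ mm q ∣ 2 ^ 46 * 3 ^ 20 * 5 ^ 9 * 7 ^ 6 * 11 ^ 3 * 17 ^ 1 * 19 ^ 1 * 23 ^ 1 * 29 ^ 1 *
    31 ^ 1 * 41 ^ 1 * 43 ^ 1 * 47 ^ 1 * 59 ^ 1 * 67 ^ 1 * 71 ^ 1 * (13 ^ 3 * 37) := by
  intro hd
  refine not_dvd_small h (Nat.Coprime.dvd_of_dvd_mul_left ?_ hd)
  have c : ∀ {r : ℕ}, r.Prime → r % 12 ≠ 1 → ∀ k, Nat.Coprime (mm q) (r ^ k) := fun hr h1 k =>
    coprime_prime h hr h1 k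
  exact ((((((((((((((((c (by norm_num) (by norm_num) _).mul_right (c (by norm_num) (by norm_num) _)).mul_right
    (c (by norm_num) (by norm_num) _)).mul_right (c (by norm_num) (by norm_num) _)).mul_right
    (c (by norm_num) (by norm_num) _)).mul_right (c (by norm_num) (by norm_num) _)).mul_right
    (c (by norm_num) (by norm_num) _)).mul_right (c (by norm_num) (by norm_num) _)).mul_right
    (c (by norm_num) (by norm_num) _)).mul_right (c (by norm_num) (by norm_num) _)).mul_right
    (c (by norm_num) (by norm_num) _)).mul_right (c (by norm_num) (by norm_num) _)).mul_right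
    (c (by norm_num) (by norm_num) _)).mul_right (c (by norm_num) (by norm_num) _)).mul_right
    (c (by norm_num) (by norm_num) _)).mul_right (c (by norm_num) (by norm_num) _))

theorem row_card {S : Type*} [Group S] [Finite S] (h : Sit p q S) {N : ℕ} (hN : Nat.card S = N)
    (hd : N ∣ 2 ^ 46 * 3 ^ 20 * 5 ^ 9 * 7 ^ 6 * 11 ^ 3 * 17 ^ 1 * 19 ^ 1 * 23 ^ 1 * 29 ^ 1 *
      31 ^ 1 * 41 ^ 1 * 43 ^ 1 * 47 ^ 1 * 59 ^ 1 * 67 ^ 1 * 71 ^ 1 * (13 ^ 3 * 37)) : False :=
  not_dvd_lcm h.par (h.mm_dvd_card.trans (hN ▸ hd))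

/-- **the Tits group** -/
theorem row_tits {S : Type*} [Group S] [Finite S] (h : Sit p q S) (hS : Lie.IsoTits S) : False :=
  row_card h (Orders.tits hS) (by decide +kernel)

/-- **the sporadic groups** -/
theorem row_spor {S : Type*} [Group S] [Finite S] (h : Sit p q S) (hS : IsSporadicGroup S) : False := by
  rcases hS with hS | hS | hS | hS | hS | hS | hS | hS | hS | hS | hS | hS | hS | hS | hS | hS | hS | hS | hS | hS | hS | hS |
    hS | hS | hS | hS
  · exact row_card h (Orders.m11 hS) (by decide +kernel)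
  · exact row_card h (Orders.m12 hS) (by decide +kernel)
  · exact row_card h (Orders.m22 hS) (by decide +kernel)
  · exact row_card h (Orders.m23 hS) (by decide +kernel)
  · exact row_card h (Orders.m24 hS) (by decide +kernel)
  · exact row_card h (Orders.j1 hS) (by decide +kernel)
  · exact row_card h (Orders.j2 hS) (by decide +kernel)
  · exact row_card h (Orders.j3 hS) (by decide +kernel)
  · exact row_card h (Orders.j4 hS) (by decide +kernel)
  · exact row_card h (Orders.co1 hS) (by decide +kernel)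
  · exact row_card h (Orders.co2 hS) (by decide +kernel)
  · exact row_card h (Orders.co3 hS) (by decide +kernel)
  · exact row_card h (Orders.mcl hS) (by decide +kernel)
  · exact row_card h (Orders.hs hS) (by decide +kernel)
  · exact row_card h (Orders.suz hS) (by decide +kernel)
  · exact row_card h (Orders.he hS) (by decide +kernel)
  · exact row_card h (Orders.ru hS) (by decide +kernel)
  · exact row_card h (Orders.on hS) (by decide +kernel)
  · exact row_card h (Orders.ly hS) (by decide +kernel)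
  · exact row_card h (Orders.fi22 hS) (by decide +kernel)
  · exact row_card h (Orders.fi23 hS) (by decide +kernel)
  · exact row_card h (Orders.fi24 hS) (by decide +kernel)
  · exact row_card h (Orders.hn hS) (by decide +kernel)
  · exact row_card h (Orders.th hS) (by decide +kernel)
  · exact row_card h (Orders.b hS) (by decide +kernel)
  · exact row_card h (Orders.m hS) (by decide +kernel)

end Cfsg.Agent.R2.Spec.X1.TI
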