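import Cfsg.Agent.R2.Spec.X1.TI.Exc
import Cfsg.Agent.S2475

/-!
# Identification of `³D₄(q)`: `PSL₂(u)` (helper134, statement S3478)
-/

set_option autoImplicit false
set_option linter.unusedSectionVars false

namespace Cfsg.Agent.R2.Spec.X1.TI

open Cfsg Cfsg.Agent.R2.Spec.X1.TD

variable {p q : ℕ}

/-- `(n-1)/2` is not an element order -/
theorem not_om_half {a : ℕ} (h : Par p q) (ha : 2 * a + 1 = mm q) : ¬ Om p q a := by
  intro ho
  have hq := h.hq
  have hq5 := h.q5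
  have h1 := mm_eq hq
  have h25 : 25 ≤ q ^ 2 := by nlinarith
  have h8 : q ^ 2 ∣ a := by
    have h2 : q ^ 2 ∣ 2 * a := ⟨q ^ 2 - 1, by omega⟩
    refine Nat.Coprime.dvd_of_dvd_mul_left ?_ h2
    apply Nat.Coprime.pow_left
    exact (Nat.coprime_two_right.2 (Nat.odd_iff.2 h.q_odd))
  have h9 := Nat.le_of_dvd (by omega) (Om.sq h ho h8)
  have h10 : q ^ 2 * 24 ≤ q ^ 2 * (q ^ 2 - 1) := Nat.mul_le_mul_left _ (by omega)
  omega

theorem not_om_succ (h : Par p q) : ¬ Om p q (mm q + 1) := by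
  intro ho
  have hq := h.hq
  have hq5 := h.q5
  obtain ⟨b, rfl⟩ : ∃ b, q = b + 3 := ⟨q - 3, by omega⟩
  rw [mm_poly] at ho
  rcases Om.large' h ho (by omega) with h10 | h10 | h10 | h10 | h10
  · omega
  · omega
  · omega
  · omega
  · omega

/-- **`PSL₂(u)`** -/
theorem row_psl2 {F : Type*} [Field F] [Fintype F] (h4 : 4 ≤ Fintype.card F)
    (h : Sit p q (Matrix.ProjectiveSpecialLinearGroup (Fin 2) F)) : False := by
  obtain ⟨l, hl⟩ := CharP.exists F
  have hlp : Fact l.Prime := ⟨CharP.char_is_prime F l⟩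
  obtain ⟨f, hlp', hf⟩ := FiniteField.card F l
  obtain ⟨u, hu⟩ : ∃ u, Fintype.card F = u := ⟨_, rfl⟩
  have hspec := S2475.result (F := F) l h4
  rw [hu] at hspec h4 hf
  have hu' : IsPrimePow u := hu ▸ FiniteField.isPrimePow_card F
  have hin : ∀ m : ℕ, (m ∣ l ∨ m ∣ (u - 1) / Nat.gcd 2 (u - 1) ∨ m ∣ (u + 1) / Nat.gcd 2 (u - 1)) →
      ∃ x : Matrix.ProjectiveSpecialLinearGroup (Fin 2) F, orderOf x = m := fun m hm => by
    have : m ∈ Set.range (orderOf : Matrix.ProjectiveSpecialLinearGroup (Fin 2) F → ℕ) := by rw [hspec]; exact hm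
    exact this
  have h73 := mm_ge h.par
  have hmod := mm_mod h.par
  have hmem : mm q ∣ l ∨ mm q ∣ (u - 1) / Nat.gcd 2 (u - 1) ∨ mm q ∣ (u + 1) / Nat.gcd 2 (u - 1) := by
    have : mm q ∈ Set.range (orderOf : Matrix.ProjectiveSpecialLinearGroup (Fin 2) F → ℕ) := h.mm
    rw [hspec] at this
    exact this
  obtain ⟨s, hs, hsn, hs13, hsd⟩ := h.exists_prime
  have hd : (u % 2 = 0 ∧ Nat.gcd 2 (u - 1) = 1) ∨ (u % 2 = 1 ∧ Nat.gcd 2 (u - 1) = 2) := by
    rcases Nat.mod_two_eq_zero_or_one u with h2 | h2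
    · refine Or.inl ⟨h2, ?_⟩
      have : ¬ 2 ∣ u - 1 := by omega
      exact (Nat.Prime.coprime_iff_not_dvd Nat.prime_two).2 this
    · refine Or.inr ⟨h2, Nat.gcd_eq_left (by omega)⟩
  rcases hmem with hm | hm | hm
  · -- the characteristic
    have h1 : mm q = l := (Nat.prime_dvd_prime_iff_eq (by
      have := (Nat.dvd_prime hlp').1 hm
      rcases this with h2 | h2
      · omega
      · rw [h2]; exact hlp') hlp').1 hm
    have hl1 : l % 2 = 1 := by omega
    have hu1 : u % 2 = 1 := by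
      rw [hf, Nat.pow_mod, hl1, Nat.one_pow]
    obtain ⟨-, hd⟩ := hd.resolve_left (by omega)
    rw [hd] at hin
    have h2 : l - 1 ∣ u - 1 := by
      rw [hf]
      simpa using Nat.sub_dvd_pow_sub_pow l 1 (f : ℕ)
    obtain ⟨a, ha⟩ : ∃ a, mm q = 2 * a + 1 := ⟨mm q / 2, by omega⟩
    refine not_om_half h.par ha.symm (h.ord (hin a (Or.inr (Or.inl ?_))))
    obtain ⟨w, hw⟩ : ∃ w, u - 1 = 2 * w := ⟨(u - 1) / 2, by omega⟩
    have h3 : (u - 1) / 2 = w := by omega
    rw [h3]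
    have h4 : l - 1 = 2 * a := by omega
    rw [h4, hw] at h2
    exact Nat.dvd_of_mul_dvd_mul_left (by norm_num) h2
  · have h1 : (u - 1) / Nat.gcd 2 (u - 1) = mm q :=
      Nat.dvd_antisymm (h.dvd_mm (hin _ (Or.inr (Or.inl dvd_rfl))) hs (hsn.trans hm) hsn) hm
    rcases hd with ⟨h2, h3⟩ | ⟨h2, h3⟩
    · rw [h3, Nat.div_one] at h1
      have hl2 : l = 2 := by
        by_contra hne
        have hl1 : l % 2 = 1 := Nat.odd_iff.1 (hlp'.odd_of_ne_two hne)
        have : u % 2 = 1 := by rw [hf, Nat.pow_mod, hl1, Nat.one_pow]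
        omega
      subst hl2
      have hf2 : 2 ≤ (f : ℕ) := by
        by_contra hlt
        have : (f : ℕ) ≤ 1 := by omega
        have : u ≤ 2 ^ 1 := by rw [hf]; exact Nat.pow_le_pow_right (by norm_num) this
        omega
      have : 4 ∣ u := by
        rw [hf]
        exact (show (4 : ℕ) = 2 ^ 2 by norm_num) ▸ pow_dvd_pow 2 hf2
      omega
    · rw [h3] at h1 hin
      refine not_om_succ h.par (h.ord (hin _ (Or.inr (Or.inr ?_))))
      rw [← h1]
      have : (u - 1) / 2 + 1 = (u + 1) / 2 := by omega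
      rw [this]
  · have h1 : (u + 1) / Nat.gcd 2 (u - 1) = mm q :=
      Nat.dvd_antisymm (h.dvd_mm (hin _ (Or.inr (Or.inr dvd_rfl))) hs (hsn.trans hm) hsn) hm
    rcases hd with ⟨h2, h3⟩ | ⟨h2, h3⟩
    · rw [h3, Nat.div_one] at h1
      exact ne_pow_add_one h.par hu' (m := 1) one_ne_zero (by rw [pow_one]; exact h1.symm)
    · rw [h3] at h1 hin
      have h5 : (u - 1) / 2 = mm q - 1 := by omega
      have h6 := h.ord (hin (mm q - 1) (Or.inr (Or.inl (by rw [h5]))))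
      have h7 := mm_eq h.par.hq
      have hq5 := h.par.q5
      have h25 : 25 ≤ q ^ 2 := by nlinarith
      have h8 := Nat.le_of_dvd (by omega) (Om.sq h.par h6 ⟨q ^ 2 - 1, by omega⟩)
      have h9 : q ^ 2 * 24 ≤ q ^ 2 * (q ^ 2 - 1) := Nat.mul_le_mul_left _ (by omega)
      omega

end Cfsg.Agent.R2.Spec.X1.TI
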